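/-
Helper94, project S5634 part 2 (blocks of dimension `m ≥ 2`): core definitions.
Transvections `x ↦ x + f x • v` in a subgroup `M` of `V ≃ₗ[K] V` (`TvIn M f v`), functionals supported
on one member of a decomposition (`SuppOn D f j`), the projections `hD.pr i : V →ₗ[K] V`, and the
commutator calculus.
-/
import Mathlib
import Cfsg.Agent.Lib.Helper94.LinDecomp3

set_option autoImplicit false
set_option linter.unusedSectionVars false
set_option linter.unusedVariables false
set_option linter.unusedSimpArgs false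

namespace Cfsg.Agent.Lib.Helper94.Blk

open Cfsg.Agent.Lib.Helper94 Cfsg.Agent.Lib.Helper94.SympData

variable {K V : Type*} [Field K] [AddCommGroup V] [Module K V]

/-- the transvection `x ↦ x + f x • v` exists (`f v = 0`) and lies in `M` -/
def TvIn (M : Subgroup (V ≃ₗ[K] V)) (f : Module.Dual K V) (v : V) : Prop :=
  ∃ h : f v = 0, LinearEquiv.transvection h ∈ M

lemma tv_apply {f : Module.Dual K V} {v : V} (h : f v = 0) (x : V) :
    LinearEquiv.transvection h x = x + f x • v := rfl

lemma tv_inv_apply {f : Module.Dual K V} {v : V} (h : f v = 0) (x : V) :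
    (LinearEquiv.transvection h)⁻¹ x = x - f x • v := by
  have h' : f (-v) = 0 := by rw [map_neg, h, neg_zero]
  rw [LinearEquiv.transvection.inv_eq h h', tv_apply, smul_neg, sub_eq_add_neg]

namespace TvIn

variable {M : Subgroup (V ≃ₗ[K] V)} {f f' : Module.Dual K V} {v v' : V}

lemma apply_eq_zero (h : TvIn M f v) : f v = 0 := h.1

lemma mem (h : TvIn M f v) (hfv : f v = 0) : LinearEquiv.transvection hfv ∈ M := h.2

lemma mono {M' : Subgroup (V ≃ₗ[K] V)} (hMM : M ≤ M') (h : TvIn M f v) : TvIn M' f v :=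
  ⟨h.1, hMM h.2⟩

lemma zero_left (M : Subgroup (V ≃ₗ[K] V)) (v : V) : TvIn M (0 : Module.Dual K V) v := by
  refine ⟨LinearMap.zero_apply v, ?_⟩
  have : LinearEquiv.transvection (LinearMap.zero_apply (R₁ := K) (M₂ := K) v) = 1 := by
    ext x; simp
  rw [this]; exact M.one_mem

lemma zero_right (M : Subgroup (V ≃ₗ[K] V)) (f : Module.Dual K V) : TvIn M f (0 : V) := by
  refine ⟨map_zero f, ?_⟩
  have : LinearEquiv.transvection (map_zero f) = 1 := by
    ext x; simp
  rw [this]; exact M.one_mem

/-- same centre: the functionals add -/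
lemma add_left (h : TvIn M f v) (h' : TvIn M f' v) : TvIn M (f + f') v := by
  obtain ⟨h1, h2⟩ := h
  obtain ⟨h1', h2'⟩ := h'
  have h0 : (f + f') v = 0 := by rw [LinearMap.add_apply, h1, h1', add_zero]
  refine ⟨h0, ?_⟩
  have : LinearEquiv.transvection h0 = LinearEquiv.transvection h1 * LinearEquiv.transvection h1' := by
    ext x
    rw [LinearEquiv.mul_apply, tv_apply, tv_apply, tv_apply, map_add, map_smul, h1, smul_zero,
      add_zero, LinearMap.add_apply, add_smul, add_assoc, add_comm (f' x • v)]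
  rw [this]; exact M.mul_mem h2 h2'

/-- same functional: the centres add -/
lemma add_right (h : TvIn M f v) (h' : TvIn M f v') : TvIn M f (v + v') := by
  obtain ⟨h1, h2⟩ := h
  obtain ⟨h1', h2'⟩ := h'
  have h0 : f (v + v') = 0 := by rw [map_add, h1, h1', add_zero]
  refine ⟨h0, ?_⟩
  have : LinearEquiv.transvection h0 = LinearEquiv.transvection h1 * LinearEquiv.transvection h1' := by
    ext x
    rw [LinearEquiv.mul_apply, tv_apply, tv_apply, tv_apply, map_add, map_smul, h1', smul_zero,
      add_zero, smul_add, add_assoc, add_comm (f x • v')]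
  rw [this]; exact M.mul_mem h2 h2'

lemma neg_left (h : TvIn M f v) : TvIn M (-f) v := by
  obtain ⟨h1, h2⟩ := h
  have h0 : (-f) v = 0 := by rw [LinearMap.neg_apply, h1, neg_zero]
  refine ⟨h0, ?_⟩
  have : LinearEquiv.transvection h0 = (LinearEquiv.transvection h1)⁻¹ := by
    ext x
    rw [tv_inv_apply, tv_apply, LinearMap.neg_apply, neg_smul, sub_eq_add_neg]
  rw [this]; exact M.inv_mem h2

lemma neg_right (h : TvIn M f v) : TvIn M f (-v) := by
  obtain ⟨h1, h2⟩ := h
  have h0 : f (-v) = 0 := by rw [map_neg, h1, neg_zero]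
  refine ⟨h0, ?_⟩
  have : LinearEquiv.transvection h0 = (LinearEquiv.transvection h1)⁻¹ := by
    ext x
    rw [tv_inv_apply, tv_apply, smul_neg, sub_eq_add_neg]
  rw [this]; exact M.inv_mem h2

/-- moving a scalar from the functional to the centre -/
lemma smul_comm {c : K} (h : TvIn M (c • f) v) : TvIn M f (c • v) := by
  obtain ⟨h1, h2⟩ := h
  have h1' : c * f v = 0 := by simpa using h1
  have h0 : f (c • v) = 0 := by rw [map_smul, smul_eq_mul, h1']
  refine ⟨h0, ?_⟩
  have : LinearEquiv.transvection h0 = LinearEquiv.transvection h1 := by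
    ext x
    rw [tv_apply, tv_apply, LinearMap.smul_apply, smul_eq_mul, smul_smul, mul_comm]
  rw [this]; exact h2

lemma smul_comm' {c : K} (h : TvIn M f (c • v)) : TvIn M (c • f) v := by
  obtain ⟨h1, h2⟩ := h
  have h1' : c * f v = 0 := by simpa using h1
  have h0 : (c • f) v = 0 := by rw [LinearMap.smul_apply, smul_eq_mul, h1']
  refine ⟨h0, ?_⟩
  have : LinearEquiv.transvection h0 = LinearEquiv.transvection h1 := by
    ext x
    rw [tv_apply, tv_apply, LinearMap.smul_apply, smul_eq_mul, smul_smul, mul_comm]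
  rw [this]; exact h2

/-- conjugation -/
lemma conj {g : V ≃ₗ[K] V} (hg : g ∈ M) (h : TvIn M f v) :
    TvIn M (f ∘ₗ ((g⁻¹ : V ≃ₗ[K] V) : V →ₗ[K] V)) (g v) := by
  obtain ⟨h1, h2⟩ := h
  have hgg : ∀ x, g⁻¹ (g x) = x := fun x => by
    rw [← LinearEquiv.mul_apply, inv_mul_cancel]; rfl
  have hgg' : ∀ x, g (g⁻¹ x) = x := fun x => by
    rw [← LinearEquiv.mul_apply, mul_inv_cancel]; rfl
  have h0 : (f ∘ₗ ((g⁻¹ : V ≃ₗ[K] V) : V →ₗ[K] V)) (g v) = 0 := by
    rw [LinearMap.comp_apply, LinearEquiv.coe_coe, hgg, h1]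
  refine ⟨h0, ?_⟩
  have : LinearEquiv.transvection h0 = g * LinearEquiv.transvection h1 * g⁻¹ := by
    ext x
    rw [LinearEquiv.mul_apply, LinearEquiv.mul_apply, tv_apply, tv_apply, map_add, map_smul, hgg',
      LinearMap.comp_apply, LinearEquiv.coe_coe]
  rw [this]; exact M.mul_mem (M.mul_mem hg h2) (M.inv_mem hg)

/-- the commutator, when the second functional kills the first centre: same centre,
functional `f v' • f'` -/
lemma comm_left (h : TvIn M f v) (h' : TvIn M f' v') (hz : f' v = 0) :
    TvIn M (f v' • f') v := by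
  obtain ⟨h1, h2⟩ := h
  obtain ⟨h1', h2'⟩ := h'
  have h0 : (f v' • f') v = 0 := by rw [LinearMap.smul_apply, hz, smul_zero]
  refine ⟨h0, ?_⟩
  have : LinearEquiv.transvection h0 = LinearEquiv.transvection h1 * LinearEquiv.transvection h1' *
      (LinearEquiv.transvection h1)⁻¹ * (LinearEquiv.transvection h1')⁻¹ := by
    ext x
    simp only [LinearEquiv.mul_apply, tv_apply, tv_inv_apply, map_add, map_sub, map_smul, h1, h1',
      hz, smul_eq_mul, mul_zero, sub_zero, add_zero, LinearMap.smul_apply, smul_zero, zero_smul]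
    module
  rw [this]
  exact M.mul_mem (M.mul_mem (M.mul_mem h2 h2') (M.inv_mem h2)) (M.inv_mem h2')

/-- the commutator, when the first functional kills the second centre: centre `v'`,
functional `-(f' v) • f` -/
lemma comm_right (h : TvIn M f v) (h' : TvIn M f' v') (hz : f v' = 0) :
    TvIn M (-(f' v) • f) v' := by
  obtain ⟨h1, h2⟩ := h
  obtain ⟨h1', h2'⟩ := h'
  have h0 : (-(f' v) • f) v' = 0 := by rw [LinearMap.smul_apply, hz, smul_zero]
  refine ⟨h0, ?_⟩
  have : LinearEquiv.transvection h0 = LinearEquiv.transvection h1 * LinearEquiv.transvection h1' *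
      (LinearEquiv.transvection h1)⁻¹ * (LinearEquiv.transvection h1')⁻¹ := by
    ext x
    simp only [LinearEquiv.mul_apply, tv_apply, tv_inv_apply, map_add, map_sub, map_smul, h1, h1',
      hz, smul_eq_mul, mul_zero, sub_zero, add_zero, LinearMap.smul_apply, smul_zero, zero_smul]
    module
  rw [this]
  exact M.mul_mem (M.mul_mem (M.mul_mem h2 h2') (M.inv_mem h2)) (M.inv_mem h2')

end TvIn

variable {t m : ℕ} {D : Fin t → Submodule K V}

/-- the functional `f` vanishes on all members except `D j` -/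
def SuppOn (D : Fin t → Submodule K V) (f : Module.Dual K V) (j : Fin t) : Prop :=
  ∀ l, l ≠ j → ∀ x ∈ D l, f x = 0

lemma SuppOn.add {f f' : Module.Dual K V} {j : Fin t} (h : SuppOn D f j) (h' : SuppOn D f' j) :
    SuppOn D (f + f') j := fun l hl x hx => by
  rw [LinearMap.add_apply, h l hl x hx, h' l hl x hx, add_zero]

lemma SuppOn.smul {f : Module.Dual K V} {j : Fin t} (c : K) (h : SuppOn D f j) :
    SuppOn D (c • f) j := fun l hl x hx => by
  rw [LinearMap.smul_apply, h l hl x hx, smul_zero]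

lemma SuppOn.neg {f : Module.Dual K V} {j : Fin t} (h : SuppOn D f j) :
    SuppOn D (-f) j := fun l hl x hx => by
  rw [LinearMap.neg_apply, h l hl x hx, neg_zero]

lemma suppOn_zero (j : Fin t) : SuppOn D (0 : Module.Dual K V) j := fun _ _ _ _ => rfl

/-- `M` contains a non-trivial transvection with centre in `D i` and functional supported on `D j` -/
def CrossIn (D : Fin t → Submodule K V) (M : Subgroup (V ≃ₗ[K] V)) (i j : Fin t) : Prop :=
  ∃ (f : Module.Dual K V) (v : V), TvIn M f v ∧ v ∈ D i ∧ v ≠ 0 ∧ SuppOn D f j ∧ f ≠ 0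

/-- the transvection is a block transvection -/
def IsBlock (D : Fin t → Submodule K V) (f : Module.Dual K V) (v : V) : Prop :=
  ∃ l, v ∈ D l ∧ SuppOn D f l

end Cfsg.Agent.Lib.Helper94.Blk

namespace Cfsg.Agent.Lib.Helper94.LDecomp

open Cfsg.Agent.Lib.Helper94 Cfsg.Agent.Lib.Helper94.SympData Cfsg.Agent.Lib.Helper94.Blk

variable {K V : Type*} [Field K] [AddCommGroup V] [Module K V] {t m : ℕ}
  {D : Fin t → Submodule K V}

/-- the projection onto the `i`-th member, as an endomorphism -/
noncomputable def pr (hD : LDecomp m D) (i : Fin t) : V →ₗ[K] V := (D i).subtype ∘ₗ hD.proj i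

lemma pr_apply (hD : LDecomp m D) (i : Fin t) (x : V) : hD.pr i x = (hD.proj i x : V) := rfl

lemma pr_mem (hD : LDecomp m D) (i : Fin t) (x : V) : hD.pr i x ∈ D i := (hD.proj i x).2

lemma pr_of_mem (hD : LDecomp m D) {i : Fin t} {x : V} (hx : x ∈ D i) : hD.pr i x = x :=
  hD.proj_of_mem hx

lemma pr_of_mem_ne (hD : LDecomp m D) {i j : Fin t} (hij : j ≠ i) {x : V} (hx : x ∈ D j) :
    hD.pr i x = 0 := by
  rw [pr_apply, hD.proj_of_mem_ne hij hx]; rfl

lemma sum_pr (hD : LDecomp m D) (x : V) : ∑ i, hD.pr i x = x := hD.sum_proj x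

lemma pr_pr (hD : LDecomp m D) (i : Fin t) (x : V) : hD.pr i (hD.pr i x) = hD.pr i x :=
  hD.pr_of_mem (hD.pr_mem i x)

lemma pr_pr_ne (hD : LDecomp m D) {i j : Fin t} (hij : j ≠ i) (x : V) :
    hD.pr i (hD.pr j x) = 0 := hD.pr_of_mem_ne hij (hD.pr_mem j x)

/-- a vector all of whose components vanish is zero -/
lemma eq_zero_of_pr (hD : LDecomp m D) {x : V} (h : ∀ i, hD.pr i x = 0) : x = 0 := by
  rw [← hD.sum_pr x]
  exact Finset.sum_eq_zero fun i _ => h i

/-- two different members meet trivially -/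
lemma eq_zero_of_mem_of_mem (hD : LDecomp m D) {i j : Fin t} (hij : i ≠ j) {x : V}
    (hi : x ∈ D i) (hj : x ∈ D j) : x = 0 := by
  have h1 := hD.pr_of_mem hi
  rw [hD.pr_of_mem_ne hij.symm hj] at h1
  exact h1.symm

/-- the restriction of a functional to the `i`-th member is supported there -/
lemma suppOn_comp_pr (hD : LDecomp m D) (f : Module.Dual K V) (i : Fin t) :
    SuppOn D (f ∘ₗ hD.pr i) i := fun l hl x hx => by
  rw [LinearMap.comp_apply, hD.pr_of_mem_ne hl hx, map_zero]

lemma comp_pr_apply_of_mem (hD : LDecomp m D) (f : Module.Dual K V) {i : Fin t} {x : V}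
    (hx : x ∈ D i) : (f ∘ₗ hD.pr i) x = f x := by
  rw [LinearMap.comp_apply, hD.pr_of_mem hx]

/-- a functional supported on `D j` only sees the `j`-th component -/
lemma apply_eq_of_suppOn (hD : LDecomp m D) {f : Module.Dual K V} {j : Fin t}
    (hf : SuppOn D f j) (x : V) : f x = f (hD.pr j x) := by
  conv_lhs => rw [← hD.sum_pr x]
  rw [map_sum, Finset.sum_eq_single j]
  · intro l _ hl
    exact hf l hl _ (hD.pr_mem l x)
  · intro h; exact absurd (Finset.mem_univ j) h

/-- every functional is the sum of its restrictions -/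
lemma sum_comp_pr (hD : LDecomp m D) (f : Module.Dual K V) : ∑ i, f ∘ₗ hD.pr i = f := by
  apply LinearMap.ext
  intro x
  rw [LinearMap.sum_apply]
  simp only [LinearMap.comp_apply]
  rw [← map_sum, hD.sum_pr]

/-- a functional supported on two different members vanishes -/
lemma eq_zero_of_suppOn_of_suppOn (hD : LDecomp m D) {f : Module.Dual K V} {i j : Fin t}
    (hij : i ≠ j) (hi : SuppOn D f i) (hj : SuppOn D f j) : f = 0 := by
  apply LinearMap.ext
  intro x
  rw [hD.apply_eq_of_suppOn hi x, hj i hij _ (hD.pr_mem i x), LinearMap.zero_apply]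

section FD

variable [FiniteDimensional K V]

/-- a block transvection lies in the stabiliser of the decomposition and has determinant one -/
lemma blockTv_mem (hD : LDecomp m D) {f : Module.Dual K V} {v : V} {i : Fin t} (hv : v ∈ D i)
    (hf : SuppOn D f i) (hfv : f v = 0) :
    TvIn (stabDec D ⊓ SLe K V) f v := by
  refine ⟨hfv, Subgroup.mem_inf.2 ⟨⟨1, fun l => ?_⟩, ?_⟩⟩
  · rw [Equiv.Perm.one_apply]
    apply map_eq_of_maps
    · intro x hx
      rw [Blk.tv_apply]
      by_cases hl : l = i
      · subst hl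
        exact (D l).add_mem hx ((D l).smul_mem _ hv)
      · rw [hf l hl x hx, zero_smul, add_zero]; exact hx
    · intro x hx
      rw [tv_inv_apply]
      by_cases hl : l = i
      · subst hl
        exact (D l).sub_mem hx ((D l).smul_mem _ hv)
      · rw [hf l hl x hx, zero_smul, sub_zero]; exact hx
  · rw [SympData.mem_SLe]
    exact LinearEquiv.transvection.det_eq_one _

/-- a block dilation maps every member onto itself -/
lemma blockDil_map (hD : LDecomp m D) {f : Module.Dual K V} {v : V} {i : Fin t} (hv : v ∈ D i)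
    (hf : SuppOn D f i) (h : IsUnit (1 + f v)) (l : Fin t) :
    (D l).map ((LinearEquiv.dilatransvection h : V ≃ₗ[K] V) : V →ₗ[K] V) = D l := by
  have hle : (D l).map ((LinearEquiv.dilatransvection h : V ≃ₗ[K] V) : V →ₗ[K] V) ≤ D l := by
    rintro y ⟨x, hx, rfl⟩
    rw [LinearEquiv.coe_coe, LinearEquiv.dilatransvection.apply]
    by_cases hl : l = i
    · subst hl
      exact (D l).add_mem hx ((D l).smul_mem _ hv)
    · rw [hf l hl x hx, zero_smul, add_zero]; exact hx
  apply Submodule.eq_of_le_of_finrank_eq hle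
  exact LinearEquiv.finrank_map_eq _ _

lemma blockDil_mem_stabDec (hD : LDecomp m D) {f : Module.Dual K V} {v : V} {i : Fin t}
    (hv : v ∈ D i) (hf : SuppOn D f i) (h : IsUnit (1 + f v)) :
    LinearEquiv.dilatransvection h ∈ stabDec D :=
  ⟨1, fun l => by rw [Equiv.Perm.one_apply]; exact hD.blockDil_map hv hf h l⟩

lemma tv_mem_SLe {f : Module.Dual K V} {v : V} (hfv : f v = 0) :
    LinearEquiv.transvection hfv ∈ SLe K V := by
  rw [SympData.mem_SLe]
  exact LinearEquiv.transvection.det_eq_one _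

end FD

end Cfsg.Agent.Lib.Helper94.LDecomp
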