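/-
Helper94, project S5634 part 2: existence lemmas for vectors and functionals in the members of a
decomposition (pure linear algebra).
-/
import Mathlib
import Cfsg.Agent.Lib.Helper94.Blk.Core

set_option autoImplicit false
set_option linter.unusedSectionVars false
set_option linter.unusedVariables false

namespace Cfsg.Agent.Lib.Helper94.Blk

open Cfsg.Agent.Lib.Helper94 Cfsg.Agent.Lib.Helper94.SympData

variable {K V : Type*} [Field K] [AddCommGroup V] [Module K V] [FiniteDimensional K V]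
  {t m : ℕ} {D : Fin t → Submodule K V}

omit [FiniteDimensional K V] in
theorem exists_sep {p : Submodule K V} {w : V} (hw : w ∉ p) :
    ∃ ψ : Module.Dual K V, ψ w = 1 ∧ ∀ x ∈ p, ψ x = 0 := by
  obtain ⟨f, hf, hp⟩ := Submodule.exists_le_ker_of_notMem hw
  refine ⟨(f w)⁻¹ • f, ?_, ?_⟩
  · rw [LinearMap.smul_apply, smul_eq_mul, inv_mul_cancel₀ hf]
  · intro x hx
    rw [LinearMap.smul_apply, LinearMap.mem_ker.1 (hp hx), smul_zero]

theorem exists_not_mem_span (hD : LDecomp m D) (hm : 2 ≤ m) (i : Fin t) (u : V) :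
    ∃ w ∈ D i, w ∉ Submodule.span K {u} := by
  by_contra hcon
  push Not at hcon
  have hle : D i ≤ Submodule.span K {u} := hcon
  have h1 := Submodule.finrank_mono hle
  have h2 : Module.finrank K (Submodule.span K ({u} : Set V)) ≤ 1 := by
    have := finrank_span_finset_le_card (R := K) ({u} : Finset V)
    rw [Finset.coe_singleton, Finset.card_singleton] at this
    exact this
  rw [hD.finrank_eq] at h1
  omega

theorem exists_not_mem_span_pair (hD : LDecomp m D) (hm : 3 ≤ m) (i : Fin t) (u u' : V) :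
    ∃ w ∈ D i, w ∉ Submodule.span K {u, u'} := by
  classical
  by_contra hcon
  push Not at hcon
  have hle : D i ≤ Submodule.span K {u, u'} := hcon
  have h1 := Submodule.finrank_mono hle
  have h2 : Module.finrank K (Submodule.span K ({u, u'} : Set V)) ≤ 2 := by
    have := finrank_span_finset_le_card (R := K) ({u, u'} : Finset V)
    have h3 : ({u, u'} : Finset V).card ≤ 2 := Finset.card_le_two
    have h4 : ((({u, u'} : Finset V) : Set V)) = {u, u'} := by simp
    rw [h4] at this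
    exact le_trans this h3
  rw [hD.finrank_eq] at h1
  omega

/-- X1 -/
theorem exists_suppOn_ker (hD : LDecomp m D) (hm : 2 ≤ m) (i : Fin t) (v : V) :
    ∃ f : Module.Dual K V, SuppOn D f i ∧ f v = 0 ∧ ∃ w ∈ D i, f w = 1 := by
  obtain ⟨w, hw, hwn⟩ := exists_not_mem_span hD hm i (hD.pr i v)
  obtain ⟨ψ, hψ1, hψ0⟩ := exists_sep hwn
  refine ⟨ψ ∘ₗ hD.pr i, hD.suppOn_comp_pr ψ i, ?_, w, hw, ?_⟩
  · rw [LinearMap.comp_apply]
    exact hψ0 _ (Submodule.mem_span_singleton_self _)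
  · rw [hD.comp_pr_apply_of_mem ψ hw, hψ1]

omit [FiniteDimensional K V] in
/-- X2 -/
theorem exists_suppOn_eq_one (hD : LDecomp m D) {i : Fin t} {u : V} (hu : hD.pr i u ≠ 0) :
    ∃ f : Module.Dual K V, SuppOn D f i ∧ f u = 1 := by
  have hn : hD.pr i u ∉ (⊥ : Submodule K V) := by
    rw [Submodule.mem_bot]; exact hu
  obtain ⟨ψ, hψ1, -⟩ := exists_sep hn
  exact ⟨ψ ∘ₗ hD.pr i, hD.suppOn_comp_pr ψ i, by rw [LinearMap.comp_apply, hψ1]⟩

/-- X3 -/
theorem exists_mem_ker (hD : LDecomp m D) (hm : 2 ≤ m) (i : Fin t) (f : Module.Dual K V) :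
    ∃ v ∈ D i, v ≠ 0 ∧ f v = 0 := by
  by_cases h : ∀ x ∈ D i, f x = 0
  · obtain ⟨w, hw, hwn⟩ := exists_not_mem_span hD hm i (0 : V)
    refine ⟨w, hw, ?_, h w hw⟩
    rintro rfl
    exact hwn (Submodule.zero_mem _)
  · push Not at h
    obtain ⟨w, hw, hfw⟩ := h
    obtain ⟨w2, hw2, hw2n⟩ := exists_not_mem_span hD hm i w
    refine ⟨w2 - (f w2 / f w) • w, (D i).sub_mem hw2 ((D i).smul_mem _ hw), ?_, ?_⟩
    · intro h0
      apply hw2n
      rw [Submodule.mem_span_singleton]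
      exact ⟨f w2 / f w, (sub_eq_zero.1 h0).symm⟩
    · rw [map_sub, map_smul, smul_eq_mul, div_mul_cancel₀ _ hfw, sub_self]

omit [FiniteDimensional K V] in
/-- X4 -/
theorem exists_mem_eq_one (hD : LDecomp m D) {f : Module.Dual K V} {i : Fin t}
    (hf : SuppOn D f i) (hf0 : f ≠ 0) : ∃ v ∈ D i, f v = 1 := by
  have : ∃ x, f x ≠ 0 := by
    by_contra hcon
    push Not at hcon
    exact hf0 (LinearMap.ext hcon)
  obtain ⟨x, hx⟩ := this
  rw [hD.apply_eq_of_suppOn hf x] at hx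
  refine ⟨(f (hD.pr i x))⁻¹ • hD.pr i x, (D i).smul_mem _ (hD.pr_mem i x), ?_⟩
  rw [map_smul, smul_eq_mul, inv_mul_cancel₀ hx]

omit [FiniteDimensional K V] in
/-- X5 -/
theorem exists_suppOn_sep (hD : LDecomp m D) {i : Fin t} {u u' : V} (hu : u ∈ D i)
    (hu' : u' ∈ D i) (h : u ∉ Submodule.span K {u'}) :
    ∃ f : Module.Dual K V, SuppOn D f i ∧ f u' = 0 ∧ f u = 1 := by
  obtain ⟨ψ, hψ1, hψ0⟩ := exists_sep h
  refine ⟨ψ ∘ₗ hD.pr i, hD.suppOn_comp_pr ψ i, ?_, ?_⟩
  · rw [hD.comp_pr_apply_of_mem ψ hu']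
    exact hψ0 _ (Submodule.mem_span_singleton_self _)
  · rw [hD.comp_pr_apply_of_mem ψ hu, hψ1]

/-- X7 -/
theorem exists_suppOn_ker_pair (hD : LDecomp m D) (hm : 3 ≤ m) (i : Fin t) (v v' : V) :
    ∃ f : Module.Dual K V, SuppOn D f i ∧ f v = 0 ∧ f v' = 0 ∧ ∃ w ∈ D i, f w = 1 := by
  obtain ⟨w, hw, hwn⟩ := exists_not_mem_span_pair hD hm i (hD.pr i v) (hD.pr i v')
  obtain ⟨ψ, hψ1, hψ0⟩ := exists_sep hwn
  refine ⟨ψ ∘ₗ hD.pr i, hD.suppOn_comp_pr ψ i, ?_, ?_, w, hw, ?_⟩
  · rw [LinearMap.comp_apply]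
    exact hψ0 _ (Submodule.subset_span (by simp))
  · rw [LinearMap.comp_apply]
    exact hψ0 _ (Submodule.subset_span (by simp))
  · rw [hD.comp_pr_apply_of_mem ψ hw, hψ1]

/-- a member of the decomposition contains a non-zero vector -/
theorem exists_mem_ne_zero (hD : LDecomp m D) (hm : 1 ≤ m) (i : Fin t) : ∃ v ∈ D i, v ≠ 0 := by
  have h1 : 0 < Module.finrank K (D i) := by rw [hD.finrank_eq]; omega
  obtain ⟨x, hx⟩ := Module.finrank_pos_iff_exists_ne_zero.1 h1
  exact ⟨x, x.2, fun h => hx (Subtype.ext h)⟩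

omit [FiniteDimensional K V] in
/-- a functional that is non-zero is non-zero on some member -/
theorem exists_mem_apply_ne_zero (hD : LDecomp m D) {f : Module.Dual K V} (hf : f ≠ 0) :
    ∃ i, ∃ x ∈ D i, f x ≠ 0 := by
  by_contra hcon
  push Not at hcon
  apply hf
  apply LinearMap.ext
  intro x
  rw [← hD.sum_pr x, map_sum, LinearMap.zero_apply]
  exact Finset.sum_eq_zero fun i _ => hcon i _ (hD.pr_mem i x)

omit [FiniteDimensional K V] in
/-- a non-zero vector has a non-zero component -/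
theorem exists_pr_ne_zero (hD : LDecomp m D) {v : V} (hv : v ≠ 0) : ∃ i, hD.pr i v ≠ 0 := by
  by_contra hcon
  push Not at hcon
  exact hv (hD.eq_zero_of_pr hcon)

omit [FiniteDimensional K V] in
/-- a vector with a single non-zero component lies in that member -/
theorem mem_of_pr_eq_zero (hD : LDecomp m D) {v : V} {i : Fin t}
    (h : ∀ l, l ≠ i → hD.pr l v = 0) : v ∈ D i := by
  rw [← hD.sum_pr v, Finset.sum_eq_single i]
  · exact hD.pr_mem i v
  · intro l _ hl; exact h l hl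
  · intro h'; exact absurd (Finset.mem_univ i) h'

omit [FiniteDimensional K V] in
/-- a functional vanishing on all members but one is supported there -/
theorem suppOn_of_forall (hD : LDecomp m D) {f : Module.Dual K V} {i : Fin t}
    (h : ∀ l, l ≠ i → ∀ x ∈ D l, f x = 0) : SuppOn D f i := h

end Cfsg.Agent.Lib.Helper94.Blk
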