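/-
Helper94, project S5634 part 2: [BLK-3A] one cross transvection for the pair `(i, j)` gives all
of them.
-/
import Mathlib
import Cfsg.Agent.Lib.Helper94.Blk.Ex

set_option autoImplicit false
set_option linter.unusedSectionVars false
set_option linter.unusedVariables false

namespace Cfsg.Agent.Lib.Helper94.Blk

open Cfsg.Agent.Lib.Helper94 Cfsg.Agent.Lib.Helper94.SympData

variable {K V : Type*} [Field K] [AddCommGroup V] [Module K V] [FiniteDimensional K V]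
  {t m : ℕ} {D : Fin t → Submodule K V}

/-- step 1: all centres in `D i` -/
theorem cross_all_centres (hD : LDecomp m D) (hm : 2 ≤ m) {M : Subgroup (V ≃ₗ[K] V)}
    (hNM : stabDec D ⊓ SLe K V ≤ M) {i j : Fin t} (hij : i ≠ j) {f₀ : Module.Dual K V} {u₀ : V}
    (htv : TvIn M f₀ u₀) (hu₀ : u₀ ∈ D i) (hu₀0 : u₀ ≠ 0) (hf₀ : SuppOn D f₀ j) :
    ∀ u' ∈ D i, TvIn M f₀ u' := by
  have P1 : ∀ u' ∈ D i, ∀ φ' : Module.Dual K V, SuppOn D φ' i → φ' u' = 0 → φ' u₀ = 1 →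
      TvIn M f₀ u' := by
    intro u' hu' φ' hφ' h0 h1
    have β : TvIn M φ' u' := (hD.blockTv_mem hu' hφ' h0).mono hNM
    have hz : f₀ u' = 0 := hf₀ i hij u' hu'
    have h2 := (htv.comm_right β hz).neg_left
    rw [h1] at h2
    have e : -(-(1 : K) • f₀) = f₀ := by
      ext x; simp
    rw [e] at h2
    exact h2
  intro u' hu'
  have hpr : hD.pr i u₀ ≠ 0 := by rw [hD.pr_of_mem hu₀]; exact hu₀0
  obtain ⟨φ₁, hφ₁, hφ₁u₀⟩ := exists_suppOn_eq_one hD hpr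
  obtain ⟨ζ, hζ, hζu₀, w₀, hw₀, hζw₀⟩ := exists_suppOn_ker hD hm i u₀
  set c : K := φ₁ u' with hc
  have ha : TvIn M f₀ (u' - c • u₀) := by
    apply P1 _ ((D i).sub_mem hu' ((D i).smul_mem _ hu₀)) φ₁ hφ₁ _ hφ₁u₀
    rw [map_sub, map_smul, hφ₁u₀, smul_eq_mul, mul_one, ← hc, sub_self]
  have hw₁D : c • (w₀ - φ₁ w₀ • u₀) ∈ D i :=
    (D i).smul_mem _ ((D i).sub_mem hw₀ ((D i).smul_mem _ hu₀))
  have hw₁ : TvIn M f₀ (c • (w₀ - φ₁ w₀ • u₀)) := by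
    apply P1 _ hw₁D φ₁ hφ₁ _ hφ₁u₀
    rw [map_smul, map_sub, map_smul, hφ₁u₀, smul_eq_mul, smul_eq_mul, mul_one, sub_self,
      mul_zero]
  have hw₂ : TvIn M f₀ (c • u₀ - c • (w₀ - φ₁ w₀ • u₀)) := by
    apply P1 _ ((D i).sub_mem ((D i).smul_mem _ hu₀) hw₁D) (φ₁ + ζ) (hφ₁.add hζ)
    · simp only [LinearMap.add_apply, map_sub, map_smul, hφ₁u₀, hζu₀, hζw₀, smul_eq_mul]
      ring
    · rw [LinearMap.add_apply, hφ₁u₀, hζu₀, add_zero]
  have e : u' = (u' - c • u₀) + (c • (w₀ - φ₁ w₀ • u₀) + (c • u₀ - c • (w₀ - φ₁ w₀ • u₀))) := by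
    abel
  rw [e]
  exact ha.add_right (hw₁.add_right hw₂)

/-- step 2: all functionals supported on `D j` -/
theorem cross_all_functionals (hD : LDecomp m D) (hm : 2 ≤ m) {M : Subgroup (V ≃ₗ[K] V)}
    (hNM : stabDec D ⊓ SLe K V ≤ M) {i j : Fin t} (hij : i ≠ j) {f₀ : Module.Dual K V} {u : V}
    (htv : TvIn M f₀ u) (hu : u ∈ D i) (hf₀ : SuppOn D f₀ j) (hf₀0 : f₀ ≠ 0) :
    ∀ φ' : Module.Dual K V, SuppOn D φ' j → TvIn M φ' u := by
  have P2 : ∀ φ' : Module.Dual K V, SuppOn D φ' j → ∀ u' ∈ D j, f₀ u' = 1 → φ' u' = 0 →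
      TvIn M φ' u := by
    intro φ' hφ' u' hu' h1 h0
    have β : TvIn M φ' u' := (hD.blockTv_mem hu' hφ' h0).mono hNM
    have hz : φ' u = 0 := hφ' i hij u hu
    have h2 := htv.comm_left β hz
    rw [h1, one_smul] at h2
    exact h2
  intro φ' hφ'
  obtain ⟨u₁, hu₁, hf₀u₁⟩ := exists_mem_eq_one hD hf₀ hf₀0
  obtain ⟨z, hz, hz0, hf₀z⟩ := exists_mem_ker hD hm j f₀
  have hzn : z ∉ Submodule.span K {u₁} := by
    intro hmem
    obtain ⟨a, ha⟩ := Submodule.mem_span_singleton.1 hmem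
    apply hz0
    have : a = 0 := by
      have h3 := congrArg f₀ ha
      rw [map_smul, hf₀u₁, hf₀z, smul_eq_mul, mul_one] at h3
      exact h3
    rw [← ha, this, zero_smul]
  obtain ⟨χ, hχ, hχu₁, hχz⟩ := exists_suppOn_sep hD hz hu₁ hzn
  set c : K := φ' u₁ with hc
  have hA : TvIn M (φ' - c • f₀) u := by
    apply P2 _ _ u₁ hu₁ hf₀u₁
    · rw [LinearMap.sub_apply, LinearMap.smul_apply, hf₀u₁, smul_eq_mul, mul_one, ← hc, sub_self]
    · rw [sub_eq_add_neg]; exact hφ'.add (hf₀.smul c).neg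
  have hψ₁ : TvIn M (c • χ) u := by
    apply P2 _ (hχ.smul c) u₁ hu₁ hf₀u₁
    rw [LinearMap.smul_apply, hχu₁, smul_zero]
  have hψ₂ : TvIn M (c • f₀ - c • χ) u := by
    apply P2 _ _ (u₁ + z) ((D j).add_mem hu₁ hz)
    · rw [map_add, hf₀u₁, hf₀z, add_zero]
    · simp only [LinearMap.sub_apply, LinearMap.smul_apply, map_add, hf₀u₁, hf₀z, hχu₁, hχz,
        smul_eq_mul]
      ring
    · rw [sub_eq_add_neg]; exact (hf₀.smul c).add (hχ.smul c).neg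
  have e : φ' = (φ' - c • f₀) + (c • χ + (c • f₀ - c • χ)) := by abel
  rw [e]
  exact hA.add_left (hψ₁.add_left hψ₂)

/-- [BLK-3A] -/
theorem cross_all_of_cross (hD : LDecomp m D) (hm : 2 ≤ m) {M : Subgroup (V ≃ₗ[K] V)}
    (hNM : stabDec D ⊓ SLe K V ≤ M) {i j : Fin t} (hij : i ≠ j) (h : CrossIn D M i j) :
    ∀ v ∈ D i, ∀ f : Module.Dual K V, SuppOn D f j → TvIn M f v := by
  obtain ⟨f₀, u₀, htv, hu₀, hu₀0, hf₀, hf₀0⟩ := h
  intro v hv f hf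
  have h1 := cross_all_centres hD hm hNM hij htv hu₀ hu₀0 hf₀ v hv
  exact cross_all_functionals hD hm hNM hij h1 hv hf₀ hf₀0 f hf

end Cfsg.Agent.Lib.Helper94.Blk
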