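/-
Helper94, project S5634 part 2: [BLK-3C] from one pair of members to all pairs.
-/
import Mathlib
import Cfsg.Agent.Lib.Helper94.Blk.CrossAll
import Cfsg.Agent.Lib.Helper43.Blk3B

set_option autoImplicit false
set_option linter.unusedSectionVars false
set_option linter.unusedVariables false

namespace Cfsg.Agent.Lib.Helper94.Blk

open Cfsg.Agent.Lib.Helper94 Cfsg.Agent.Lib.Helper94.SympData

variable {K V : Type*} [Field K] [AddCommGroup V] [Module K V] [FiniteDimensional K V]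
  {t m : ℕ} {D : Fin t → Submodule K V}

lemma exists_perm_pair {i₀ j₀ i j : Fin t} (h₀ : i₀ ≠ j₀) (hij : i ≠ j) :
    ∃ π : Equiv.Perm (Fin t), π i₀ = i ∧ π j₀ = j := by
  have hj₁ : Equiv.swap i₀ i j₀ ≠ i := by
    intro h
    have h2 : Equiv.swap i₀ i j₀ = Equiv.swap i₀ i i₀ := by rw [h, Equiv.swap_apply_left]
    exact h₀ ((Equiv.swap i₀ i).injective h2).symm
  refine ⟨Equiv.swap (Equiv.swap i₀ i j₀) j * Equiv.swap i₀ i, ?_, ?_⟩
  · rw [Equiv.Perm.mul_apply, Equiv.swap_apply_left,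
      Equiv.swap_apply_of_ne_of_ne hj₁.symm hij]
  · rw [Equiv.Perm.mul_apply]
    exact Equiv.swap_apply_left _ _

/-- [BLK-3C] -/
theorem cross_all_pairs (hD : LDecomp m D) (hm : 2 ≤ m) {M : Subgroup (V ≃ₗ[K] V)}
    (hNM : stabDec D ⊓ SLe K V ≤ M) {i₀ j₀ : Fin t} (h₀ : i₀ ≠ j₀) (h : CrossIn D M i₀ j₀) :
    ∀ i j, i ≠ j → ∀ v ∈ D i, ∀ f : Module.Dual K V, SuppOn D f j → TvIn M f v := by
  intro i j hij
  obtain ⟨π, hπi, hπj⟩ := exists_perm_pair h₀ hij
  obtain ⟨s, hsN, hs⟩ := Cfsg.Agent.Lib.Helper43.Blk3B.exists_perm_mem hD (by omega) π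
  obtain ⟨f₀, u₀, htv, hu₀, hu₀0, hf₀, hf₀0⟩ := h
  have hsM := hNM hsN
  have h1 := htv.conj hsM
  have hss : ∀ y, s⁻¹ (s y) = y := fun y => by
    rw [← LinearEquiv.mul_apply, inv_mul_cancel]; rfl
  apply cross_all_of_cross hD hm hNM hij
  refine ⟨f₀ ∘ₗ ((s⁻¹ : V ≃ₗ[K] V) : V →ₗ[K] V), s u₀, h1, ?_, ?_, ?_, ?_⟩
  · rw [← hπi, ← hs i₀]
    exact ⟨u₀, hu₀, rfl⟩
  · intro h0
    apply hu₀0
    have := congrArg (fun y => s⁻¹ y) h0
    simpa [hss] using this
  · intro l hl x hx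
    have hmem : s⁻¹ x ∈ D (π.symm l) := by
      have h2 := hs (π.symm l)
      rw [Equiv.apply_symm_apply] at h2
      rw [← h2] at hx
      obtain ⟨y, hy, rfl⟩ := hx
      rw [LinearEquiv.coe_coe, hss]
      exact hy
    rw [LinearMap.comp_apply, LinearEquiv.coe_coe]
    apply hf₀ (π.symm l) ?_ _ hmem
    intro h'
    apply hl
    rw [← hπj, ← h', Equiv.apply_symm_apply]
  · intro h0
    apply hf₀0
    apply LinearMap.ext
    intro x
    have := congrArg (fun g : Module.Dual K V => g (s x)) h0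
    simpa [hss] using this

end Cfsg.Agent.Lib.Helper94.Blk
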