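/-
Helper94, project S5634 part 2: [BLK-2B2] the easy cases in the search for a cross transvection.
-/
import Mathlib
import Cfsg.Agent.Lib.Helper94.Blk.Ex
import Cfsg.Agent.Lib.Helper38.Blk2A

set_option autoImplicit false
set_option linter.unusedSectionVars false
set_option linter.unusedVariables false

namespace Cfsg.Agent.Lib.Helper94.Blk

open Cfsg.Agent.Lib.Helper94 Cfsg.Agent.Lib.Helper94.SympData
open Cfsg.Agent.Lib.Helper38.Blk2A

variable {K V : Type*} [Field K] [AddCommGroup V] [Module K V] [FiniteDimensional K V]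
  {t m : ℕ} {D : Fin t → Submodule K V}

omit [FiniteDimensional K V] in
/-- a vector outside `D i` has a non-zero component elsewhere -/
lemma exists_ne_pr_ne_zero (hD : LDecomp m D) {v : V} {i : Fin t} (hv : v ∉ D i) :
    ∃ i', i' ≠ i ∧ hD.pr i' v ≠ 0 := by
  by_contra hcon
  push Not at hcon
  exact hv (mem_of_pr_eq_zero hD hcon)

/-- case (a): the centre lies in one member -/
theorem easy_center (hD : LDecomp m D) (hm : 2 ≤ m) {M : Subgroup (V ≃ₗ[K] V)}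
    (hNM : stabDec D ⊓ SLe K V ≤ M) {f : Module.Dual K V} {v : V} (h : TvIn M f v)
    (hv : v ≠ 0) (hnb : ¬ IsBlock D f v) {i : Fin t} (hvi : v ∈ D i) :
    ∃ i j, i ≠ j ∧ CrossIn D M i j := by
  have hns : ¬ SuppOn D f i := fun hs => hnb ⟨i, hvi, hs⟩
  unfold SuppOn at hns
  push Not at hns
  obtain ⟨j, hji, x, hx, hfx⟩ := hns
  exact ⟨i, j, hji.symm, cross_of_center_mem hD hm hNM h hji.symm hvi hv hx hfx⟩

/-- case (a'): the functional is supported on one member -/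
theorem easy_suppOn (hD : LDecomp m D) (hm : 2 ≤ m) {M : Subgroup (V ≃ₗ[K] V)}
    (hNM : stabDec D ⊓ SLe K V ≤ M) {f : Module.Dual K V} {v : V} (h : TvIn M f v)
    (hf : f ≠ 0) {j : Fin t} (hfj : SuppOn D f j) (hvj : v ∉ D j) :
    ∃ i j, i ≠ j ∧ CrossIn D M i j := by
  obtain ⟨i, hij, hpi⟩ := exists_ne_pr_ne_zero hD hvj
  exact ⟨i, j, hij, cross_of_suppOn hD hm hNM h hij hfj hf hpi⟩

/-- case (b-ii): a non-zero component where the functional vanishes -/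
theorem easy_bii (hD : LDecomp m D) (hm : 2 ≤ m) {M : Subgroup (V ≃ₗ[K] V)}
    (hNM : stabDec D ⊓ SLe K V ≤ M) {f : Module.Dual K V} {v : V} (h : TvIn M f v)
    (hf : f ≠ 0) {j : Fin t} (hvj : hD.pr j v ≠ 0) (hfj : ∀ x ∈ D j, f x = 0) :
    ∃ i j, i ≠ j ∧ CrossIn D M i j := by
  obtain ⟨φ', hφ', hφ'v⟩ := exists_suppOn_eq_one hD hvj
  obtain ⟨u', hu', hu'0, hφ'u'⟩ := exists_mem_ker hD hm j φ'
  have β : TvIn M φ' u' := (hD.blockTv_mem hu' hφ' hφ'u').mono hNM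
  have h1 := h.comm_right β (hfj u' hu')
  rw [hφ'v] at h1
  obtain ⟨j', x, hx, hfx⟩ := exists_mem_apply_ne_zero hD hf
  have hjj' : j ≠ j' := by
    rintro rfl
    exact hfx (hfj x hx)
  refine ⟨j, j', hjj', cross_of_center_mem hD hm hNM h1 hjj' hu' hu'0 hx ?_⟩
  rw [LinearMap.smul_apply, smul_eq_mul]
  exact mul_ne_zero (neg_ne_zero.2 one_ne_zero) hfx

/-- the functional can be replaced by one supported on `D i` if a suitable block transvection
exists -/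
theorem easy_reduce (hD : LDecomp m D) (hm : 2 ≤ m) {M : Subgroup (V ≃ₗ[K] V)}
    (hNM : stabDec D ⊓ SLe K V ≤ M) {f : Module.Dual K V} {v : V} (h : TvIn M f v)
    {i : Fin t} (hvi : v ∉ D i) {x : V} (hx : x ∈ D i) (hfx : f x ≠ 0)
    {φ' : Module.Dual K V} (hφ' : SuppOn D φ' i) (hφ'x : φ' x = 0) (hφ'v : φ' v = 0)
    {w : V} (hw : φ' w = 1) : ∃ i j, i ≠ j ∧ CrossIn D M i j := by
  have β : TvIn M φ' x := (hD.blockTv_mem hx hφ' hφ'x).mono hNM
  have h1 := h.comm_left β hφ'v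
  have hne : f x • φ' ≠ 0 := by
    intro h0
    have := congrArg (fun g : Module.Dual K V => g w) h0
    simp only [LinearMap.smul_apply, hw, smul_eq_mul, mul_one, LinearMap.zero_apply] at this
    exact hfx this
  exact easy_suppOn hD hm hNM h1 hne (hφ'.smul _) hvi

/-- [BLK-2B2] the easy cases for any `m ≥ 2` -/
theorem exists_cross_of_easy (hD : LDecomp m D) (hm : 2 ≤ m) {M : Subgroup (V ≃ₗ[K] V)}
    (hNM : stabDec D ⊓ SLe K V ≤ M) {f : Module.Dual K V} {v : V} (h : TvIn M f v)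
    (hf : f ≠ 0) (hv : v ≠ 0) (hnb : ¬ IsBlock D f v)
    (hcase : (∃ i, v ∈ D i) ∨ (∃ j, SuppOn D f j) ∨
      (∃ i, (∃ x ∈ D i, f x ≠ 0) ∧ hD.pr i v = 0) ∨
      (∃ j, hD.pr j v ≠ 0 ∧ ∀ x ∈ D j, f x = 0) ∨
      (∃ i, f (hD.pr i v) ≠ 0)) : ∃ i j, i ≠ j ∧ CrossIn D M i j := by
  rcases hcase with ⟨i, hvi⟩ | ⟨j, hfj⟩ | ⟨i, ⟨x, hx, hfx⟩, hpi⟩ | ⟨j, hvj, hfj⟩ | ⟨i, hfi⟩
  · exact easy_center hD hm hNM h hv hnb hvi
  · exact easy_suppOn hD hm hNM h hf hfj (fun hvj => hnb ⟨j, hvj, hfj⟩)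
  · -- (b-i)
    have hvi : v ∉ D i := by
      intro hvi
      rw [hD.pr_of_mem hvi] at hpi
      exact hv hpi
    obtain ⟨φ', hφ', hφ'x, w, hw, hφ'w⟩ := exists_suppOn_ker hD hm i x
    have hφ'v : φ' v = 0 := by rw [hD.apply_eq_of_suppOn hφ' v, hpi, map_zero]
    exact easy_reduce hD hm hNM h hvi hx hfx hφ' hφ'x hφ'v hφ'w
  · exact easy_bii hD hm hNM h hf hvj hfj
  · -- (b-iii-1)
    by_cases hvi : v ∈ D i
    · exact easy_center hD hm hNM h hv hnb hvi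
    · obtain ⟨φ', hφ', hφ'x, w, hw, hφ'w⟩ := exists_suppOn_ker hD hm i (hD.pr i v)
      have hφ'v : φ' v = 0 := by rw [hD.apply_eq_of_suppOn hφ' v, hφ'x]
      exact easy_reduce hD hm hNM h hvi (hD.pr_mem i v) hfi hφ' hφ'x hφ'v hφ'w

end Cfsg.Agent.Lib.Helper94.Blk
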