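/-
Helper94, project S5634 part 2: [BLK-2C] the residual case for blocks of dimension two.
-/
import Mathlib
import Cfsg.Agent.Lib.Helper94.Blk.Easy

set_option autoImplicit false
set_option linter.unusedSectionVars false
set_option linter.unusedVariables false

namespace Cfsg.Agent.Lib.Helper94.Blk

open Cfsg.Agent.Lib.Helper94 Cfsg.Agent.Lib.Helper94.SympData

variable {K V : Type*} [Field K] [AddCommGroup V] [Module K V] [FiniteDimensional K V]
  {t m : ℕ} {D : Fin t → Submodule K V}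

/-- conjugating by a product of two block dilations fixing the centre -/
theorem residual_step (hD : LDecomp m D) {c : K} (hc0 : c ≠ 0) {M : Subgroup (V ≃ₗ[K] V)}
    (hNM : stabDec D ⊓ SLe K V ≤ M) {f : Module.Dual K V} {v : V} (h : TvIn M f v)
    {i k : Fin t} (hik : i ≠ k) {wi wk : V} (hwi : wi ∈ D i) (hwk : wk ∈ D k)
    {χi χk : Module.Dual K V} (hχi : SuppOn D χi i) (hχk : SuppOn D χk k)
    (hχiv : χi v = 0) (hχkv : χk v = 0) (hχiw : χi wi = 1) (hχkw : χk wk = 1) :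
    ∃ ψ : Module.Dual K V, TvIn M ψ v ∧
      ∀ x, ψ x = (c⁻¹ - 1) * χk x * f wk + (c - 1) * χi x * f wi := by
  have hui : IsUnit (1 + ((c - 1) • χi) wi) := by
    rw [LinearMap.smul_apply, hχiw, smul_eq_mul, mul_one, add_sub_cancel]
    exact isUnit_iff_ne_zero.2 hc0
  have huk : IsUnit (1 + ((c⁻¹ - 1) • χk) wk) := by
    rw [LinearMap.smul_apply, hχkw, smul_eq_mul, mul_one, add_sub_cancel]
    exact isUnit_iff_ne_zero.2 (inv_ne_zero hc0)
  set δi : V ≃ₗ[K] V := LinearEquiv.dilatransvection hui with hδi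
  set δk : V ≃ₗ[K] V := LinearEquiv.dilatransvection huk with hδk
  set s : V ≃ₗ[K] V := δi * δk with hs
  have hsS : s ∈ stabDec D :=
    (stabDec D).mul_mem (hD.blockDil_mem_stabDec hwi (hχi.smul _) hui)
      (hD.blockDil_mem_stabDec hwk (hχk.smul _) huk)
  have hsdet : s ∈ SLe K V := by
    rw [SympData.mem_SLe, hs, map_mul]
    apply Units.ext
    rw [Units.val_mul, LDecomp.det_dilatransvection, LDecomp.det_dilatransvection,
      LinearMap.smul_apply, LinearMap.smul_apply, hχiw, hχkw, smul_eq_mul, smul_eq_mul, mul_one,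
      mul_one, add_sub_cancel, add_sub_cancel, Units.val_one, mul_inv_cancel₀ hc0]
  have hsM : s ∈ M := hNM ⟨hsS, hsdet⟩
  have hsx : ∀ x, s x = x + ((c⁻¹ - 1) * χk x) • wk + ((c - 1) * χi x) • wi := by
    intro x
    rw [hs, LinearEquiv.mul_apply, hδi, hδk, LinearEquiv.dilatransvection.apply,
      LinearEquiv.dilatransvection.apply, LinearMap.smul_apply, LinearMap.smul_apply, map_add,
      map_smul, hχi k hik.symm wk hwk, smul_zero, add_zero, smul_eq_mul, smul_eq_mul]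
  have hsv : s v = v := by
    rw [hsx, hχkv, hχiv, mul_zero, mul_zero, zero_smul, zero_smul, add_zero, add_zero]
  have hsv' : s⁻¹ v = v := by
    conv_lhs => rw [← hsv]
    rw [← LinearEquiv.mul_apply, inv_mul_cancel]; rfl
  have h1 := h.conj (M.inv_mem hsM)
  rw [hsv', inv_inv] at h1
  have h2 := h1.add_left h.neg_left
  refine ⟨_, h2, fun x => ?_⟩
  rw [LinearMap.add_apply, LinearMap.comp_apply, LinearEquiv.coe_coe, LinearMap.neg_apply, hsx,
    map_add, map_add, map_smul, map_smul, smul_eq_mul, smul_eq_mul]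
  ring

/-- [BLK-2C] the residual case for `m = 2` -/
theorem exists_cross_of_residual (hD : LDecomp 2 D) (ht : 3 ≤ t) {c : K} (hc0 : c ≠ 0)
    (hc1 : c ≠ 1) {M : Subgroup (V ≃ₗ[K] V)}
    (hNM : stabDec D ⊓ SLe K V ≤ M) {f : Module.Dual K V} {v : V} (h : TvIn M f v)
    (hf : f ≠ 0) (hv : v ≠ 0) (hvD : ∀ i, v ∉ D i)
    (H1 : ∀ i, (∃ x ∈ D i, f x ≠ 0) → hD.pr i v ≠ 0 ∧ f (hD.pr i v) = 0)
    (H2 : ∀ j, hD.pr j v ≠ 0 → ∃ x ∈ D j, f x ≠ 0) : ∃ i j, i ≠ j ∧ CrossIn D M i j := by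
  classical
  obtain ⟨i, wi, hwi, hfwi⟩ := exists_mem_apply_ne_zero hD hf
  obtain ⟨hui0, hfui⟩ := H1 i ⟨wi, hwi, hfwi⟩
  have hwin : wi ∉ Submodule.span K {hD.pr i v} := by
    intro hmem
    obtain ⟨a, ha⟩ := Submodule.mem_span_singleton.1 hmem
    apply hfwi
    rw [← ha, map_smul, hfui, smul_zero]
  obtain ⟨χi, hχi, hχiu, hχiw⟩ := exists_suppOn_sep hD hwi (hD.pr_mem i v) hwin
  have hχiv : χi v = 0 := by rw [hD.apply_eq_of_suppOn hχi v, hχiu]
  have hc1' : c - 1 ≠ 0 := sub_ne_zero.2 hc1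
  -- the construction for a given second index
  have key : ∀ k, i ≠ k → ∃ (wk : V) (χk ψ : Module.Dual K V), wk ∈ D k ∧ SuppOn D χk k ∧
      TvIn M ψ v ∧ ∀ x, ψ x = (c⁻¹ - 1) * χk x * f wk + (c - 1) * χi x * f wi := by
    intro k hik
    obtain ⟨wk, hwk, hwkn⟩ := exists_not_mem_span hD (le_refl 2) k (hD.pr k v)
    obtain ⟨χk, hχk, hχku, hχkw⟩ := exists_suppOn_sep hD hwk (hD.pr_mem k v) hwkn
    have hχkv : χk v = 0 := by rw [hD.apply_eq_of_suppOn hχk v, hχku]
    obtain ⟨ψ, hψ, hψx⟩ := residual_step hD hc0 hNM h hik hwi hwk hχi hχk hχiv hχkv hχiw hχkw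
    exact ⟨wk, χk, ψ, hwk, hχk, hψ, hψx⟩
  by_cases hk : ∃ k, i ≠ k ∧ hD.pr k v = 0
  · obtain ⟨k, hik, hkv⟩ := hk
    obtain ⟨wk, χk, ψ, hwk, hχk, hψ, hψx⟩ := key k hik
    have hfwk : f wk = 0 := by
      by_contra hne
      exact (H1 k ⟨wk, hwk, hne⟩).1 hkv
    have hψS : SuppOn D ψ i := by
      intro l hl x hx
      rw [hψx, hfwk, hχi l hl x hx]; ring
    have hψ0 : ψ ≠ 0 := by
      intro h0
      have := congrArg (fun g : Module.Dual K V => g wi) h0
      simp only [hψx, hfwk, hχiw, LinearMap.zero_apply, mul_zero, zero_add, mul_one] at this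
      exact mul_ne_zero hc1' hfwi this
    exact easy_suppOn hD (le_refl 2) hNM hψ hψ0 hψS (hvD i)
  · push Not at hk
    -- all components are non-zero; choose `k` and `l`
    have hcard : 1 < ((Finset.univ : Finset (Fin t)).erase i).card := by
      rw [Finset.card_erase_of_mem (Finset.mem_univ i), Finset.card_univ, Fintype.card_fin]
      omega
    obtain ⟨k, hk', l, hl', hkl⟩ := Finset.one_lt_card.1 hcard
    have hik : i ≠ k := (Finset.ne_of_mem_erase hk').symm
    have hil : i ≠ l := (Finset.ne_of_mem_erase hl').symm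
    obtain ⟨wk, χk, ψ, hwk, hχk, hψ, hψx⟩ := key k hik
    have hψl : ∀ x ∈ D l, ψ x = 0 := by
      intro x hx
      rw [hψx, hχk l hkl.symm x hx, hχi l hil.symm x hx]; ring
    have hψ0 : ψ ≠ 0 := by
      intro h0
      have := congrArg (fun g : Module.Dual K V => g wi) h0
      simp only [hψx, hχk i hik wi hwi, hχiw, LinearMap.zero_apply, mul_zero, zero_mul, zero_add,
        mul_one] at this
      exact mul_ne_zero hc1' hfwi this
    exact easy_bii hD (le_refl 2) hNM hψ hψ0 (hk l hil) hψl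

end Cfsg.Agent.Lib.Helper94.Blk
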