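/-
Helper94, project S5634 part 2: [BLK-2B3] blocks of dimension at least three.
-/
import Mathlib
import Cfsg.Agent.Lib.Helper94.Blk.Easy

set_option autoImplicit false
set_option linter.unusedSectionVars false
set_option linter.unusedVariables false

namespace Cfsg.Agent.Lib.Helper94.Blk

open Cfsg.Agent.Lib.Helper94 Cfsg.Agent.Lib.Helper94.SympData

variable {K V : Type*} [Field K] [AddCommGroup V] [Module K V] [FiniteDimensional K V]
  {t m : ℕ} {D : Fin t → Submodule K V}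

/-- [BLK-2B3] the case `m ≥ 3` -/
theorem exists_cross_of_three_le (hD : LDecomp m D) (hm : 3 ≤ m) {M : Subgroup (V ≃ₗ[K] V)}
    (hNM : stabDec D ⊓ SLe K V ≤ M) {f : Module.Dual K V} {v : V} (h : TvIn M f v)
    (hf : f ≠ 0) (hv : v ≠ 0) (hnb : ¬ IsBlock D f v) : ∃ i j, i ≠ j ∧ CrossIn D M i j := by
  have hm2 : 2 ≤ m := by omega
  obtain ⟨i, w, hw, hfw⟩ := exists_mem_apply_ne_zero hD hf
  by_cases hvi : v ∈ D i
  · exact easy_center hD hm2 hNM h hv hnb hvi
  · obtain ⟨φ', hφ', hφ'w, hφ'v, w', hw', hφ'w'⟩ := exists_suppOn_ker_pair hD hm i w v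
    exact easy_reduce hD hm2 hNM h hvi hw hfw hφ' hφ'w hφ'v hφ'w'

end Cfsg.Agent.Lib.Helper94.Blk
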