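/-
Helper94, project S5634 part 2: assembly.  The stabiliser of a decomposition into blocks of
dimension `m ≥ 2` is maximal in the special linear group.
-/
import Mathlib
import Cfsg.Agent.Lib.Helper94.Blk.Residual
import Cfsg.Agent.Lib.Helper94.Blk.Three
import Cfsg.Agent.Lib.Helper94.Blk.Pairs
import Cfsg.Agent.Lib.Helper54.BlkOneB
import Cfsg.Agent.Lib.Helper95.Blk1Of
import Cfsg.Agent.Lib.Helper76.Blk3D
import Cfsg.Agent.Lib.Helper94.Mono.GLDesc

set_option autoImplicit false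
set_option linter.unusedSectionVars false
set_option linter.unusedVariables false

namespace Cfsg.Agent.Lib.Helper94.Blk

open Cfsg.Agent.Lib.Helper94 Cfsg.Agent.Lib.Helper94.SympData
section abstract

variable {K V : Type*} [Field K] [AddCommGroup V] [Module K V] [FiniteDimensional K V]
  {t m : ℕ} {D : Fin t → Submodule K V}

/-- [BLK-1] -/
theorem exists_nonblock_tv (hD : LDecomp m D) (hm : 2 ≤ m) {M : Subgroup (V ≃ₗ[K] V)}
    (hNM : stabDec D ⊓ SLe K V ≤ M) {g : V ≃ₗ[K] V} (hg : g ∈ M) (hgs : g ∉ stabDec D) :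
    ∃ (f : Module.Dual K V) (v : V), TvIn M f v ∧ f ≠ 0 ∧ v ≠ 0 ∧ ¬ IsBlock D f v :=
  Cfsg.Agent.Lib.Helper95.Blk1.exists_nonblock_tv_of
    (fun h => Cfsg.Agent.Lib.Helper54.Blk1B.mem_stabDec_of_forall hD (by omega) h) hD hm hNM hg hgs

/-- [BLK-2] -/
theorem exists_cross (hD : LDecomp m D) (hm : 2 ≤ m)
    (h2 : m = 2 → 3 ≤ t ∧ ∃ c : K, c ≠ 0 ∧ c ≠ 1) {M : Subgroup (V ≃ₗ[K] V)}
    (hNM : stabDec D ⊓ SLe K V ≤ M) {f : Module.Dual K V} {v : V} (h : TvIn M f v)
    (hf : f ≠ 0) (hv : v ≠ 0) (hnb : ¬ IsBlock D f v) : ∃ i j, i ≠ j ∧ CrossIn D M i j := by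
  by_cases hm3 : 3 ≤ m
  · exact exists_cross_of_three_le hD hm3 hNM h hf hv hnb
  · have hm2 : m = 2 := by omega
    subst hm2
    obtain ⟨ht, c, hc0, hc1⟩ := h2 rfl
    by_cases hcase : (∃ i, v ∈ D i) ∨ (∃ j, SuppOn D f j) ∨
        (∃ i, (∃ x ∈ D i, f x ≠ 0) ∧ hD.pr i v = 0) ∨
        (∃ j, hD.pr j v ≠ 0 ∧ ∀ x ∈ D j, f x = 0) ∨
        (∃ i, f (hD.pr i v) ≠ 0)
    · exact exists_cross_of_easy hD hm hNM h hf hv hnb hcase
    · simp only [not_or, not_exists, not_and] at hcase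
      obtain ⟨c1, c2, c3, c4, c5⟩ := hcase
      apply exists_cross_of_residual hD ht hc0 hc1 hNM h hf hv c1
      · intro i hi
        obtain ⟨x, hx, hfx⟩ := hi
        refine ⟨fun h0 => ?_, ?_⟩
        · exact c3 i ⟨x, hx, hfx⟩ h0
        · by_contra hne
          exact c5 i hne
      · intro j hj
        by_contra hcon
        push Not at hcon
        exact c4 j hj hcon

/-- the stabiliser is a proper subgroup: some element of determinant one is not in it -/
theorem exists_mem_SLe_not_mem_stabDec (hD : LDecomp m D) (hm : 1 ≤ m) (ht : 2 ≤ t) :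
    ∃ g ∈ SLe K V, g ∉ stabDec D := by
  set i0 : Fin t := ⟨0, by omega⟩ with hi0
  set i1 : Fin t := ⟨1, by omega⟩ with hi1
  have h01 : i0 ≠ i1 := by
    intro h
    have := congrArg Fin.val h
    simp [hi0, hi1] at this
  obtain ⟨v, hv, hv0⟩ := exists_mem_ne_zero hD hm i0
  obtain ⟨w, hw, hw0⟩ := exists_mem_ne_zero hD hm i1
  have hprw : hD.pr i1 w ≠ 0 := by rw [hD.pr_of_mem hw]; exact hw0
  obtain ⟨f, hf, hfw⟩ := exists_suppOn_eq_one hD hprw
  have hfv : f v = 0 := hf i0 h01 v hv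
  refine ⟨LinearEquiv.transvection hfv, LDecomp.tv_mem_SLe hfv, ?_⟩
  rintro ⟨σ, hσ⟩
  have hmem : w + v ∈ D (σ i1) := by
    rw [← hσ i1]
    refine ⟨w, hw, ?_⟩
    rw [LinearEquiv.coe_coe, tv_apply, hfw, one_smul]
  have e0 : hD.pr i0 (w + v) = v := by
    rw [map_add, hD.pr_of_mem_ne h01.symm hw, hD.pr_of_mem hv, zero_add]
  have e1 : hD.pr i1 (w + v) = w := by
    rw [map_add, hD.pr_of_mem hw, hD.pr_of_mem_ne h01 hv, add_zero]
  have s0 : σ i1 = i0 := by
    by_contra hne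
    rw [hD.pr_of_mem_ne hne hmem] at e0
    exact hv0 e0.symm
  have s1 : σ i1 = i1 := by
    by_contra hne
    rw [hD.pr_of_mem_ne hne hmem] at e1
    exact hw0 e1.symm
  exact h01 (s0.symm.trans s1)

/-- an overgroup of the stabiliser not contained in it contains all transvections -/
theorem all_tv_of_not_le (hD : LDecomp m D) (hm : 2 ≤ m)
    (h2 : m = 2 → 3 ≤ t ∧ ∃ c : K, c ≠ 0 ∧ c ≠ 1) {M : Subgroup (V ≃ₗ[K] V)}
    (hNM : stabDec D ⊓ SLe K V ≤ M) (hM : ¬ M ≤ stabDec D) :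
    ∀ (f : Module.Dual K V) (v : V), f v = 0 → TvIn M f v := by
  obtain ⟨g, hgM, hg⟩ := SetLike.not_le_iff_exists.1 hM
  obtain ⟨f, v, htv, hf, hv, hnb⟩ := exists_nonblock_tv hD hm hNM hgM hg
  obtain ⟨i, j, hij, hcr⟩ := exists_cross hD hm h2 hNM htv hf hv hnb
  exact Cfsg.Agent.Lib.Helper76.Blk3D.all_tv_of_cross_all hD hNM (cross_all_pairs hD hm hNM hij hcr)

end abstract

section concrete

variable {ι : Type} [Fintype ι] [DecidableEq ι] {F : Type*} [Field F]

/-- a subgroup containing all transvections contains the automorphisms of determinant one -/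
theorem SLe_le_of_forall_tvIn [Nontrivial ι] (M : Subgroup ((ι → F) ≃ₗ[F] (ι → F)))
    (h : ∀ (f : Module.Dual F (ι → F)) (v : ι → F), f v = 0 → TvIn M f v) :
    SLe F (ι → F) ≤ M := by
  have hle := specialLinear_le_of_transvections (ι := ι) (F := F)
    (M.comap (glEquiv ι F).toMonoidHom) (by
      intro f v hfv
      rw [Subgroup.mem_comap]
      change (glEquiv ι F) ((glEquiv ι F).symm (LinearEquiv.transvection hfv)) ∈ M
      rw [MulEquiv.apply_symm_apply]
      exact (h f v hfv).mem hfv)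
  rw [← map_specialLinear, Subgroup.map_le_iff_le_comap]
  exact hle

/-- **The stabiliser of a decomposition into blocks of dimension at least two is maximal**
(automorphism form). -/
theorem blocks_isMaximalIn {n t m : ℕ} {D : Fin t → Submodule F (Fin n → F)} (hD : LDecomp m D)
    (hm : 2 ≤ m) (ht : 2 ≤ t) (h2 : m = 2 → 3 ≤ t ∧ ∃ c : F, c ≠ 0 ∧ c ≠ 1) :
    Cfsg.Geo.IsMaximalIn (SLe F (Fin n → F)) (stabDec D ⊓ SLe F (Fin n → F)) := by
  have hfr : Module.finrank F (Fin n → F) = n := by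
    rw [Module.finrank_fintype_fun_eq_card]; simp
  have hle := hD.finrank_le
  rw [hfr] at hle
  have hn : 2 ≤ n := by
    by_contra hcon
    push Not at hcon
    -- finrank (D 0) = m ≤ n
    have := Submodule.finrank_le (D ⟨0, by omega⟩)
    rw [hD.finrank_eq, hfr] at this
    omega
  have hnt : Nontrivial (Fin n) := Fin.nontrivial_iff_two_le.2 hn
  constructor
  · rw [SetLike.lt_iff_le_and_exists]
    refine ⟨inf_le_right, ?_⟩
    obtain ⟨g, hg1, hg2⟩ := exists_mem_SLe_not_mem_stabDec hD (by omega) ht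
    exact ⟨g, hg1, fun hmem => hg2 hmem.1⟩
  · intro M hNM hMS
    by_cases hM : M ≤ stabDec D
    · left
      exact le_antisymm (le_inf hM hMS) hNM
    · right
      apply le_antisymm hMS
      exact SLe_le_of_forall_tvIn M (all_tv_of_not_le hD hm h2 hNM hM)

/-- **S5634, the case `m ≥ 2`.** -/
theorem decomp_isMaximalIn_of_two_le [Fintype F] (n : ℕ) (hn : 13 ≤ n) {t : ℕ} (m : ℕ)
    (D : Fin t → Submodule F (Fin n → F)) (hD : Cfsg.Geo.IsMDecomposition m D) (hm : 2 ≤ m)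
    (h2 : ¬ (m = 2 ∧ Fintype.card F = 2)) :
    Cfsg.Geo.IsMaximalIn (Cfsg.Geo.specialLinear (Fin n) F)
      (Cfsg.Geo.decompositionStabilizer D ⊓ Cfsg.Geo.specialLinear (Fin n) F) := by
  classical
  have hL : LDecomp m D := ⟨hD.finrank_eq, hD.indep, hD.iSup_eq_top⟩
  have hfr : Module.finrank F (Fin n → F) = n := by
    rw [Module.finrank_fintype_fun_eq_card]; simp
  have hle := hL.finrank_le
  rw [hfr] at hle
  apply isMaximalIn_of_map (glEquiv (Fin n) F)
  rw [map_inf_equiv, map_decompositionStabilizer, map_specialLinear]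
  apply blocks_isMaximalIn hL hm hD.two_le
  rintro rfl
  refine ⟨by omega, ?_⟩
  have hq : 3 ≤ Fintype.card F := by
    have h1 : 1 < Fintype.card F := Fintype.one_lt_card
    have h3 : Fintype.card F ≠ 2 := fun h => h2 ⟨rfl, h⟩
    omega
  obtain ⟨μ, hμ⟩ := Cfsg.Agent.Lib.Helper94.Mono.exists_unit_ne_one hq
  exact ⟨(μ : F), Units.ne_zero μ, hμ⟩

end concrete

end Cfsg.Agent.Lib.Helper94.Blk
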